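import Cfsg.Agent.H921.Cov.JFacts
import Cfsg.Agent.PermutationGroups.OnanScott
import Cfsg.Agent.Lib.SubnormalJoin

/-! S2499 (normal 2-coverings): the Hall–Janko group (helper921). -/

set_option autoImplicit false
set_option linter.style.haveILetI false
set_option linter.unusedSectionVars false

/-!
# `J₂`: subgroups of order divisible by 25 (helper921, for S2499)
-/


namespace Cfsg.Agent.H921.Cov.JA

open Subgroup Cfsg.Agent.J2Type Cfsg.Agent.J2Type.Base Cfsg.Agent.J2Type.CentU Cfsg.Agent.J2Type.SylowFive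
open Cfsg.Agent.H257.Cov Cfsg.Agent.H257.El Cfsg.Agent.OrdDiv

universe u

section gen

theorem ord_simple (tab : OrderTable.{u}) (known : Known.{u}) {S : Type u} [Group S] [Finite S] [IsSimpleGroup S]
    (hna : ¬ ∀ a b : S, a * b = b * a) (hd : Nat.card S ∣ 86400) : Nat.card S = 60 ∨ Nat.card S = 360 := by
  obtain ⟨g, hg, -, hc⟩ := OrdDiv.exists_good tab (known S) hna (l := [(2, 7), (3, 3), (5, 2)]) (N := 86400)
    (by decide +kernel) hd
  have key : ∀ g ∈ cands [(2, 7), (3, 3), (5, 2)] 86400, ordN g = 60 ∨ ordN g = 360 := by decide +kernel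
  rw [hc]
  exact key g hg

theorem perm_case {K : Type*} [Group K] [Finite K] (N : Subgroup K) [hN : N.Normal] [IsSimpleGroup N]
    (h60 : Nat.card N = 60) (hC : centralizer (N : Set K) = ⊥) : Nat.card K ∣ 720 := by
  haveI : Fact (Nat.Prime 5) := ⟨by norm_num⟩
  obtain ⟨P⟩ : Nonempty (Sylow 5 N) := inferInstance
  have hP5 : Nat.card P = 5 := by
    have h1 : (Nat.card N).factorization 5 = 1 := by
      rw [h60, show (60 : ℕ) = 5 ^ 1 * 12 by norm_num, Nat.factorization_mul (by norm_num) (by norm_num),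
        Nat.Prime.factorization_pow (by norm_num), Finsupp.add_apply, Finsupp.single_eq_same,
        Nat.factorization_eq_zero_of_not_dvd (by norm_num)]
    rw [P.card_eq_multiplicity, h1]
    norm_num
  have hPi : (P : Subgroup N).index = 12 := by
    have h1 := (P : Subgroup N).card_mul_index
    rw [h60, hP5] at h1
    omega
  have hPn : ¬ (P : Subgroup N).Normal := by
    intro h
    rcases h.eq_bot_or_eq_top with h1 | h1
    · rw [h1, card_bot] at hP5
      norm_num at hP5
    · rw [h1, index_top] at hPi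
      norm_num at hPi
  have hn6 : Nat.card (Sylow 5 N) = 6 := by
    have h1 : Nat.card (Sylow 5 N) % 5 = 1 := card_sylow_modEq_one 5 N
    have h2 := P.card_dvd_index
    rw [hPi] at h2
    have h3 : Nat.card (Sylow 5 N) ≠ 1 := by
      intro h
      have : Subsingleton (Sylow 5 N) := (Nat.card_eq_one_iff_unique.1 h).1
      exact hPn (P.normal_of_subsingleton)
    have key : ∀ n ∈ Nat.divisors 12, n % 5 = 1 → n ≠ 1 → n = 6 := by decide +kernel
    exact key _ (Nat.mem_divisors.2 ⟨h2, by norm_num⟩) h1 h3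
  let φ : K →* Equiv.Perm (Sylow 5 N) := (MulAction.toPermHom (MulAut N) (Sylow 5 N)).comp MulAut.conjNormal
  have hQ : (φ.ker.subgroupOf N) = ⊥ := by
    have hn : (φ.ker.subgroupOf N).Normal := inferInstance
    rcases hn.eq_bot_or_eq_top with h | h
    · exact h
    · exfalso
      apply hPn
      refine ⟨fun x hx n => ?_⟩
      have h1 : n ∈ φ.ker.subgroupOf N := by rw [h]; exact mem_top _
      have h2 : φ (n : K) = 1 := h1
      have h3 : (MulAut.conjNormal (n : K) : MulAut N) • P = P := by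
        have := congrArg (fun s : Equiv.Perm (Sylow 5 N) => s P) h2
        exact this
      have h4 : (MulAut.conjNormal (n : K) : MulAut N) • x ∈
          (((MulAut.conjNormal (n : K) : MulAut N) • P : Sylow 5 N) : Subgroup N) :=
        Subgroup.smul_mem_pointwise_smul x _ (P : Subgroup N) hx
      rw [h3] at h4
      have h5 : (MulAut.conjNormal (n : K) : MulAut N) • x = n * x * n⁻¹ := Subtype.ext (by
        show ((MulAut.conjNormal (n : K) : MulAut N) x : K) = _
        rw [MulAut.conjNormal_apply]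
        rfl)
      rwa [h5] at h4
  have hinj : Function.Injective φ := by
    rw [injective_iff_map_eq_one]
    intro k hk
    have h1 : k ∈ centralizer (N : Set K) := by
      rw [mem_centralizer_iff]
      intro n hn
      have h2 : k * n * k⁻¹ * n⁻¹ ∈ N := N.mul_mem (hN.conj_mem n hn k) (N.inv_mem hn)
      have h3 : k * n * k⁻¹ * n⁻¹ ∈ φ.ker := by
        have h4 := φ.ker.mul_mem (show k ∈ φ.ker from hk)
          ((inferInstance : φ.ker.Normal).conj_mem _ (φ.ker.inv_mem (show k ∈ φ.ker from hk)) n)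
        rwa [show k * (n * k⁻¹ * n⁻¹) = k * n * k⁻¹ * n⁻¹ by group] at h4
      have h4 : (⟨k * n * k⁻¹ * n⁻¹, h2⟩ : N) ∈ φ.ker.subgroupOf N := h3
      rw [hQ, mem_bot] at h4
      have h5 : k * n * k⁻¹ * n⁻¹ = 1 := congrArg Subtype.val h4
      calc n * k = (k * n * k⁻¹ * n⁻¹)⁻¹ * (k * n) := by group
        _ = k * n := by rw [h5]; group
    rw [hC] at h1
    exact h1
  have h := Subgroup.card_dvd_of_injective φ hinj
  rwa [Nat.card_perm, hn6] at h

end gen

variable {T : Type u} [Group T] {z u f d : T} {U V H0 : Subgroup T} [Finite T] (D : Dt z u f d U V H0)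
include D

theorem small {P : Sylow 5 T} {M : Subgroup T} (hM : ∀ p ∈ (P : Subgroup T), ∀ x ∈ M, p * x * p⁻¹ ∈ M)
    (h4 : Nat.card M ≤ 4) : M = ⊥ := by
  haveI : Fact (Nat.Prime 5) := ⟨by norm_num⟩
  obtain ⟨h1, h2, -⟩ := P_facts D P
  have h3 := card_fix_mod (P : Subgroup T) M P.isPGroup' hM
  rw [h1] at h3
  have h5 : Nat.card (M ⊓ (P : Subgroup T) : Subgroup T) ≤ Nat.card M :=
    Nat.le_of_dvd Nat.card_pos (card_dvd_of_le inf_le_left)
  have h6 : Nat.card (M ⊓ (P : Subgroup T) : Subgroup T) ∣ 25 := by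
    rw [← h2]
    exact card_dvd_of_le inf_le_right
  have key : ∀ n ∈ Nat.divisors 25, n ≤ 4 → n = 1 := by decide +kernel
  have h7 := key _ (Nat.mem_divisors.2 ⟨h6, by norm_num⟩) (h5.trans h4)
  rw [← Subgroup.card_eq_one]
  have h8 : 0 < Nat.card M := Nat.card_pos
  omega

/-- a 2-group or 3-group normalised by `P` is trivial -/
theorem bot_of_two_three {P : Sylow 5 T} {M : Subgroup T} (hM : ∀ p ∈ (P : Subgroup T), ∀ x ∈ M, p * x * p⁻¹ ∈ M)
    (h : Nat.card M ∣ 128 ∨ Nat.card M ∣ 27) : M = ⊥ := by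
  haveI : Fact (Nat.Prime 5) := ⟨by norm_num⟩
  by_contra hne
  obtain ⟨h1, h25, -⟩ := P_facts D P
  have claim : ∃ p ∈ (P : Subgroup T), orderOf p = 5 ∧ M ⊓ centralizer ({p} : Set T) ≠ ⊥ := by
    by_contra hno
    push Not at hno
    obtain ⟨m, hm, hm1⟩ := (Subgroup.ne_bot_iff_exists_ne_one.1 hne) |> fun ⟨x, hx⟩ =>
      (⟨x.1, x.2, fun h => hx (Subtype.ext h)⟩ : ∃ m : T, m ∈ M ∧ m ≠ 1)
    have hle : 25 ≤ Nat.card M := by
      rw [← h25]
      apply Nat.card_le_card_of_injective (fun p : P => (⟨p * m * (p : T)⁻¹, hM p p.2 m hm⟩ : M))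
      intro a b hab
      have h2 : (a : T) * m * (a : T)⁻¹ = b * m * (b : T)⁻¹ := congrArg Subtype.val hab
      by_contra hne'
      let c : T := (b : T)⁻¹ * a
      have hc1 : c ≠ 1 := fun h => hne' (Subtype.ext (inv_mul_eq_one.1 h).symm)
      have hcP : c ∈ (P : Subgroup T) := mul_mem (inv_mem b.2) a.2
      have hcm : Commute c m := by
        show (b : T)⁻¹ * a * m = m * ((b : T)⁻¹ * a)
        calc (b : T)⁻¹ * a * m = (b : T)⁻¹ * (a * m * (a : T)⁻¹) * a := by group
          _ = (b : T)⁻¹ * (b * m * (b : T)⁻¹) * a := by rw [h2]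
          _ = m * ((b : T)⁻¹ * a) := by group
      have ho : orderOf c ∣ 25 := by
        have := dvd_of_mem hcP
        rwa [h25] at this
      have ho1 : orderOf c ≠ 1 := by rwa [Ne, orderOf_eq_one_iff]
      have key : ∀ n ∈ Nat.divisors 25, n ≠ 1 → 5 ∣ n := by decide +kernel
      have h5c := key _ (Nat.mem_divisors.2 ⟨ho, by norm_num⟩) ho1
      have hpos : 0 < orderOf c := orderOf_pos c
      have ho5 : orderOf (c ^ (orderOf c / 5)) = 5 := by
        rw [orderOf_pow_of_dvd (Nat.div_pos (Nat.le_of_dvd hpos h5c) (by norm_num)).ne' (Nat.div_dvd_of_dvd h5c),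
          Nat.div_div_self h5c hpos.ne']
      have h3 := hno _ (pow_mem hcP _) ho5
      have h4 : m ∈ M ⊓ centralizer ({c ^ (orderOf c / 5)} : Set T) :=
        mem_inf.2 ⟨hm, mem_centralizer_singleton_iff.2 (hcm.pow_left _).symm.eq⟩
      rw [h3, mem_bot] at h4
      exact hm1 h4
    obtain ⟨p, hp⟩ := exists_prime_orderOf_dvd_card' (G := P) 5 (by rw [h25]; norm_num)
    rw [← orderOf_coe] at hp
    have h3 := card_fix_mod (zpowers (p : T)) M (IsPGroup.of_card (n := 1) (by rw [Nat.card_zpowers, hp, pow_one]))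
      (fun a ha x hx => hM a (zpowers_le.2 p.2 ha) x hx)
    rw [centralizer_zpowers, hno p p.2 hp, card_bot] at h3
    have k1 : ∀ n ∈ Nat.divisors 128, 25 ≤ n → n % 5 = 1 % 5 → False := by decide +kernel
    have k2 : ∀ n ∈ Nat.divisors 27, 25 ≤ n → n % 5 = 1 % 5 → False := by decide +kernel
    rcases h with h | h
    · exact k1 _ (Nat.mem_divisors.2 ⟨h, by norm_num⟩) hle h3
    · exact k2 _ (Nat.mem_divisors.2 ⟨h, by norm_num⟩) hle h3
  obtain ⟨p, hp, hp5, hne2⟩ := claim
  apply hne2
  refine small D (P := P) (fun q hq x hx => ?_) ?_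
  · obtain ⟨hx1, hx2⟩ := mem_inf.1 hx
    refine mem_inf.2 ⟨hM q hq x hx1, ?_⟩
    rw [mem_centralizer_singleton_iff] at hx2 ⊢
    have hqp : Commute q p := comm_of_mem (card_T D) P hq hp
    exact ((hqp.mul_left (show Commute x p from hx2)).mul_left hqp.inv_left).eq
  · have h2 : Nat.card (M ⊓ centralizer ({p} : Set T) : Subgroup T) ∣ Nat.card M := card_dvd_of_le inf_le_left
    have h3 : Nat.card (M ⊓ centralizer ({p} : Set T) : Subgroup T) ∣ 300 := by
      refine (card_dvd_of_le inf_le_right).trans ?_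
      rcases card_C_five D hp5 with h | h
      · rw [h]
      · rw [h]; norm_num
    rcases h with h | h
    · exact (Nat.le_of_dvd (by norm_num) (Nat.dvd_gcd (h2.trans h) h3)).trans (by decide)
    · exact (Nat.le_of_dvd (by norm_num) (Nat.dvd_gcd (h2.trans h) h3)).trans (by decide)

/-- a nontrivial normal 5-subgroup is generated by `w` -/
theorem eq_of_five {K M : Subgroup T} (hMK : M ≤ K) (hM : ∀ k ∈ K, ∀ x ∈ M, k * x * k⁻¹ ∈ M) (hne : M ≠ ⊥)
    (h : Nat.card M ∣ 25) {w : T} (hw : w ∈ H0) (hw5 : orderOf w = 5) (hwK : w ∈ K) (hdK : d ∈ K) :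
    M = zpowers w := by
  haveI : Fact (Nat.Prime 5) := ⟨by norm_num⟩
  haveI : Fact (Nat.Prime 3) := ⟨by norm_num⟩
  have hdw : d * w = w * d := D.dH w hw
  have hpd : IsPGroup 3 (zpowers d) := IsPGroup.of_card (n := 1) (by rw [Nat.card_zpowers, D.hd, pow_one])
  have hpw : IsPGroup 5 (zpowers w) := IsPGroup.of_card (n := 1) (by rw [Nat.card_zpowers, hw5, pow_one])
  have hd1 := card_fix_mod (zpowers d) M hpd (fun a ha x hx => hM a (zpowers_le.2 hdK ha) x hx)
  have hw1 := card_fix_mod (zpowers w) M hpw (fun a ha x hx => hM a (zpowers_le.2 hwK ha) x hx)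
  rw [centralizer_zpowers] at hd1 hw1
  have key : ∀ n ∈ Nat.divisors 25, n ≠ 1 → n = 5 ∨ n = 25 := by decide +kernel
  rcases key _ (Nat.mem_divisors.2 ⟨h, by norm_num⟩) (fun h1 => hne (Subgroup.card_eq_one.1 h1)) with h5 | h25
  · have hMw : M ≤ centralizer ({w} : Set T) := by
      have h1 : Nat.card (M ⊓ centralizer ({w} : Set T) : Subgroup T) ∣ 5 := by
        rw [← h5]; exact card_dvd_of_le inf_le_left
      have h2 : Nat.card (M ⊓ centralizer ({w} : Set T) : Subgroup T) = 5 := by
        rcases (Nat.dvd_prime (by norm_num)).1 h1 with h2 | h2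
        · rw [h5, h2] at hw1
          norm_num at hw1
        · exact h2
      have h3 : M ⊓ centralizer ({w} : Set T) = M := eq_of_le_of_card_ge inf_le_left (by rw [h2, h5])
      rw [← h3]
      exact inf_le_right
    have hMd : M ≤ centralizer ({d} : Set T) := by
      have h1 : Nat.card (M ⊓ centralizer ({d} : Set T) : Subgroup T) ∣ 5 := by
        rw [← h5]; exact card_dvd_of_le inf_le_left
      have h2 : Nat.card (M ⊓ centralizer ({d} : Set T) : Subgroup T) = 5 := by
        rcases (Nat.dvd_prime (by norm_num)).1 h1 with h2 | h2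
        · rw [h5, h2] at hd1
          norm_num at hd1
        · exact h2
      have h3 : M ⊓ centralizer ({d} : Set T) = M := eq_of_le_of_card_ge inf_le_left (by rw [h2, h5])
      rw [← h3]
      exact inf_le_right
    set A := centralizer ({w} : Set T) ⊓ centralizer ({d} : Set T) with hA
    have h15 : Nat.card A = 15 := fifteen D hw hw5 D.hd hdw
    have hwA : zpowers w ≤ A := by
      rw [zpowers_le, hA, mem_inf, mem_centralizer_singleton_iff, mem_centralizer_singleton_iff]
      exact ⟨rfl, hdw.symm⟩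
    have hWn : ((zpowers w).subgroupOf A).Normal := by
      refine ⟨fun n hn g => ?_⟩
      rw [mem_subgroupOf] at hn ⊢
      obtain ⟨k, hk⟩ := mem_zpowers_iff.1 hn
      have h1 : Commute (g : T) (w ^ k) :=
        (show Commute (g : T) w from mem_centralizer_singleton_iff.1 (mem_inf.1 g.2).1).zpow_right k
      have h2 : ((g * n * g⁻¹ : A) : T) = w ^ k := by
        simp only [coe_mul, coe_inv]
        rw [← hk, h1.eq]
        group
      rw [h2]
      exact zpow_mem_zpowers w k
    have hWi : ((zpowers w).subgroupOf A).index = 3 := by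
      have h1 := ((zpowers w).subgroupOf A).card_mul_index
      rw [Nat.card_congr (subgroupOfEquivOfLe hwA).toEquiv, Nat.card_zpowers, hw5, h15] at h1
      omega
    have hle : M ≤ zpowers w := by
      intro m hm
      have hmA : m ∈ A := mem_inf.2 ⟨hMw hm, hMd hm⟩
      have h1 := mem_of_coprime_index ((zpowers w).subgroupOf A) (z := ⟨m, hmA⟩) (by
        rw [hWi, Subgroup.orderOf_mk]
        have h2 := dvd_of_mem hm
        rw [h5] at h2
        exact Nat.Coprime.coprime_dvd_left h2 (by norm_num))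
      exact h1
    exact eq_of_le_of_card_ge hle (by rw [h5, Nat.card_zpowers, hw5])
  · exfalso
    -- `M` is a Sylow subgroup
    have hf : (Nat.card T).factorization 5 = 2 := by
      rw [card_T D, show (604800 : ℕ) = 5 ^ 2 * 24192 by norm_num, Nat.factorization_mul (by norm_num) (by norm_num),
        Nat.Prime.factorization_pow (by norm_num), Finsupp.add_apply, Finsupp.single_eq_same,
        Nat.factorization_eq_zero_of_not_dvd (by norm_num)]
    let Q : Sylow 5 T := Sylow.ofCard M (by rw [h25, hf]; norm_num)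
    obtain ⟨hQ1, -, -⟩ := P_facts D Q
    have hQ : (Q : Subgroup T) = M := rfl
    rw [hQ] at hQ1
    have hn : (M.subgroupOf K).Normal := by
      refine ⟨fun n hn g => ?_⟩
      rw [mem_subgroupOf] at hn ⊢
      exact hM g g.2 n hn
    have hwM : w ∈ M := by
      have h1 := mem_of_coprime_index (M.subgroupOf K) (z := ⟨w, hwK⟩) (by
        rw [Subgroup.orderOf_mk, hw5, Nat.Prime.coprime_iff_not_dvd (by norm_num)]
        intro h5
        have h2 := (M.subgroupOf K).card_mul_index
        rw [Nat.card_congr (subgroupOfEquivOfLe hMK).toEquiv, h25] at h2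
        have h3 : 25 * 5 ∣ Nat.card K := by
          rw [← h2]
          exact Nat.mul_dvd_mul_left _ h5
        have h4 := h3.trans (card_subgroup_dvd_card K)
        rw [card_T D] at h4
        norm_num at h4)
      exact h1
    have h1 : Nat.card (M ⊓ centralizer ({d} : Set T) : Subgroup T) ∣ 25 := by
      rw [← h25]; exact card_dvd_of_le inf_le_left
    have h2 : 5 ∣ Nat.card (M ⊓ centralizer ({d} : Set T) : Subgroup T) := by
      have h3 := dvd_of_mem (mem_inf.2 ⟨hwM, mem_centralizer_singleton_iff.2 hdw.symm⟩ :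
        w ∈ M ⊓ centralizer ({d} : Set T))
      rwa [hw5] at h3
    have key2 : ∀ n ∈ Nat.divisors 25, 5 ∣ n → 25 % 3 = n % 3 → n = 25 := by decide +kernel
    rw [h25] at hd1
    have h3 := key2 _ (Nat.mem_divisors.2 ⟨h1, by norm_num⟩) h2 hd1
    have h4 : M ⊓ centralizer ({d} : Set T) = M := eq_of_le_of_card_ge inf_le_left (by rw [h3, h25])
    have h5 : d ∈ M := by
      rw [← hQ1, mem_centralizer_iff]
      intro m hm
      have h6 : m ∈ M ⊓ centralizer ({d} : Set T) := by rw [h4]; exact hm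
      exact mem_centralizer_singleton_iff.1 (mem_inf.1 h6).2
    have h6 := dvd_of_mem h5
    rw [D.hd, h25] at h6
    norm_num at h6

end Cfsg.Agent.H921.Cov.JA

/-!
# `J₂`: subgroups of order divisible by 25 (continued), by 35, by 7 (helper921, for S2499)

* `K_norm` : a subgroup of order divisible by 25, not by 7, containing `w`, `d`, normalises `⟨w⟩`
* `no35` : no proper subgroup of order divisible by 35
* `H_main` : no proper subgroup of order divisible by 7, not by 5, containing elements of the types of `x12`, `x6`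
-/


namespace Cfsg.Agent.H921.Cov.JA

open Subgroup Cfsg.Agent.J2Type Cfsg.Agent.J2Type.Base Cfsg.Agent.J2Type.CentU Cfsg.Agent.J2Type.SylowFive
open Cfsg.Agent.H257.Cov Cfsg.Agent.H257.El Cfsg.Agent.OrdDiv

universe u

variable {T : Type u} [Group T] {z u f d : T} {U V H0 : Subgroup T} [Finite T] (D : Dt z u f d U V H0)
include D

theorem no_commK {K : Subgroup T} {S1 S2 : Subgroup K} [hs : IsSimpleGroup S2] (hna : ¬ ∀ a b : S2, a * b = b * a)
    (h1 : 20 ∣ Nat.card S1) (h2 : 20 ∣ Nat.card S2) (hc : ∀ x ∈ S1, ∀ y ∈ S2, x * y = y * x) : False := by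
  let e := S2.equivMapOfInjective K.subtype K.subtype_injective
  have hs' : IsSimpleGroup (S2.map K.subtype) := (MulEquiv.isSimpleGroup_congr e).1 hs
  have c1 : Nat.card (S1.map K.subtype) = Nat.card S1 := card_map_of_injective K.subtype_injective
  have c2 : Nat.card (S2.map K.subtype) = Nat.card S2 := card_map_of_injective K.subtype_injective
  refine no_comm D (S1 := S1.map K.subtype) (S2 := S2.map K.subtype) ?_ ?_ ?_ ?_ ?_ ?_
  · rw [c1]; exact (by norm_num : 5 ∣ 20).trans h1
  · rw [c1]; exact (by norm_num : 4 ∣ 20).trans h1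
  · rw [c2]; exact (by norm_num : 5 ∣ 20).trans h2
  · rw [c2]; exact (by norm_num : 4 ∣ 20).trans h2
  · intro h
    apply hna
    intro a b
    apply e.injective
    rw [map_mul, map_mul, h]
  · rintro _ ⟨x, hx, rfl⟩ _ ⟨y, hy, rfl⟩
    exact congrArg Subtype.val (hc x hx y hy)

theorem card_K {K : Subgroup T} (h7 : ¬ 7 ∣ Nat.card K) : Nat.card K ∣ 86400 := by
  have h1 := card_subgroup_dvd_card K
  rw [card_T D, show (604800 : ℕ) = 86400 * 7 by norm_num] at h1
  exact (((Nat.Prime.coprime_iff_not_dvd (by norm_num)).2 h7).symm).dvd_of_dvd_mul_right h1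

theorem no_nonab (tab : OrderTable.{u}) (known : Known.{u}) {K : Subgroup T} (h25 : 25 ∣ Nat.card K)
    (h7 : ¬ 7 ∣ Nat.card K)
    (hab : ∀ N : Subgroup K, N.Normal → (∀ a ∈ N, ∀ b ∈ N, a * b = b * a) → N = ⊥) : False := by
  haveI : Fact (Nat.Prime 3) := ⟨by norm_num⟩
  haveI : Fact (Nat.Prime 5) := ⟨by norm_num⟩
  have hK := card_K D h7
  have main : ∀ L : Subgroup K, L.Normal → L ≠ ⊥ → ∃ S : Subgroup K, S ≤ L ∧ S.Normal ∧ IsSimpleGroup S ∧
      (¬ ∀ a b : S, a * b = b * a) ∧ (Nat.card S = 60 ∨ Nat.card S = 360) := by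
    intro L hL hL1
    obtain ⟨N, hN, hNL, hN1, hmin⟩ := Cfsg.Agent.Lib.SubnormalJoin.exists_minimal_normal_le L hL hL1
    have hna : ¬ ∀ x ∈ N, ∀ y ∈ N, Commute x y := fun h => hN1 (hab N hN h)
    obtain ⟨m, S, e, hm, hsim, hSna, hinj, hle, -, -, -, hs, hcoord⟩ :=
      Cfsg.Agent.PermutationGroups.OnanScott.exists_coordinates N hmin hna
    have hSna' : ∀ i, ¬ ∀ a b : S i, a * b = b * a := fun i h => by
      obtain ⟨a, b, hab⟩ := hSna i
      exact hab (h a b)
    have hcard : ∀ i, Nat.card (S i) = 60 ∨ Nat.card (S i) = 360 := fun i => by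
      have := hsim i
      exact ord_simple tab known (hSna' i) ((card_subgroup_dvd_card (S i)).trans hK)
    have h20 : ∀ i, 20 ∣ Nat.card (S i) := fun i => by
      rcases hcard i with h | h
      · rw [h]; norm_num
      · rw [h]; norm_num
    have hm1 : m = 1 := by
      by_contra hm1
      let i : Fin m := ⟨0, hm⟩
      let j : Fin m := ⟨1, by omega⟩
      have hij : i ≠ j := by
        intro h
        have := congrArg Fin.val h
        simp [i, j] at this
      have hsj := hsim j
      refine no_commK D (S1 := S i) (S2 := S j) (hSna' j) (h20 i) (h20 j) ?_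
      intro x hx y hy
      have h1 : e (⟨x, hle i hx⟩ : N) j = 1 := by
        have h2 : e.symm (Pi.mulSingle i ⟨x, hx⟩) = (⟨x, hle i hx⟩ : N) := Subtype.ext (hs i ⟨x, hx⟩)
        rw [← h2, MulEquiv.apply_symm_apply, Pi.mulSingle_eq_of_ne hij.symm]
      exact ((hcoord ⟨x, hle i hx⟩ j).1 h1 y hy).eq
    subst hm1
    have hNS : S 0 = N := by
      apply eq_of_le_of_card_ge (hle 0)
      have h1 : Nat.card N = Nat.card (S 0) := by
        rw [Nat.card_congr e.toEquiv, Nat.card_pi]
        simp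
      rw [h1]
    refine ⟨S 0, ?_, ?_, hsim 0, hSna' 0, hcard 0⟩
    · rw [hNS]; exact hNL
    · rw [hNS]; exact hN
  have hnt : (⊤ : Subgroup K) ≠ ⊥ := by
    intro h
    have h1 : Nat.card K = 1 := by
      rw [← Subgroup.card_top, h, card_bot]
    rw [h1] at h25
    norm_num at h25
  obtain ⟨S, -, hSn, hSs, hSna, hS⟩ := main ⊤ inferInstance hnt
  have h20 : 20 ∣ Nat.card S := by
    rcases hS with h | h
    · rw [h]; norm_num
    · rw [h]; norm_num
  have hC : centralizer (S : Set K) = ⊥ := by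
    by_contra hne
    obtain ⟨S', hS'C, -, hS's, hS'na, hS'⟩ := main (centralizer (S : Set K)) inferInstance hne
    have h20' : 20 ∣ Nat.card S' := by
      rcases hS' with h | h
      · rw [h]; norm_num
      · rw [h]; norm_num
    exact no_commK D (S1 := S) (S2 := S') hS'na h20 h20' (fun x hx y hy => mem_centralizer_iff.1 (hS'C hy) x hx)
  rcases hS with h60 | h360
  · have h := h25.trans (perm_case S h60 hC)
    norm_num at h
  · have hd : 5 ∣ S.index := by
      have h1 := S.card_mul_index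
      rw [h360] at h1
      rw [← h1] at h25
      have h2 : 5 * 5 ∣ 5 * (72 * S.index) := by
        rw [← mul_assoc]
        exact h25
      have h3 := Nat.dvd_of_mul_dvd_mul_left (by norm_num) h2
      exact (Nat.Coprime.dvd_mul_left (by norm_num)).1 h3
    obtain ⟨Q⟩ : Nonempty (Sylow 3 S) := inferInstance
    have hQ9 : Nat.card Q = 9 := by
      have h1 : (Nat.card S).factorization 3 = 2 := by
        rw [h360, show (360 : ℕ) = 3 ^ 2 * 40 by norm_num, Nat.factorization_mul (by norm_num) (by norm_num),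
          Nat.Prime.factorization_pow (by norm_num), Finsupp.add_apply, Finsupp.single_eq_same,
          Nat.factorization_eq_zero_of_not_dvd (by norm_num)]
      rw [Q.card_eq_multiplicity, h1]
      norm_num
    obtain ⟨y, hy, hyn⟩ := exists_normalizer' S hd Q
    set R : Subgroup T := (((Q : Subgroup S).map S.subtype).map K.subtype) with hR
    have hR9 : Nat.card R = 9 := by
      rw [hR, card_map_of_injective K.subtype_injective, card_map_of_injective S.subtype_injective, hQ9]
    have hy' : orderOf (y : T) = 5 := by rw [orderOf_coe, hy]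
    have hyR : (y : T) ∈ normalizer (R : Set T) := by
      rw [mem_normalizer_iff]
      intro x
      have h1 := mem_normalizer_iff.1 hyn
      constructor
      · rintro ⟨k, hk, rfl⟩
        exact ⟨y * k * y⁻¹, (h1 k).1 hk, rfl⟩
      · rintro ⟨k, hk, hkx⟩
        refine ⟨y⁻¹ * k * y, (h1 _).2 ?_, ?_⟩
        · rwa [show y * (y⁻¹ * k * y) * y⁻¹ = k by group]
        · have h2 : (k : T) = y * x * (y : T)⁻¹ := hkx
          show (y : T)⁻¹ * k * y = x
          rw [h2]
          group
    have h3 := card_fix_mod (zpowers (y : T)) R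
      (IsPGroup.of_card (n := 1) (by rw [Nat.card_zpowers, hy', pow_one])) (fun a ha x hx =>
        (mem_normalizer_iff.1 ((zpowers_le (H := normalizer (R : Set T))).2 hyR ha) x).1 hx)
    rw [centralizer_zpowers, hR9] at h3
    have h4 : Nat.card (R ⊓ centralizer ({(y : T)} : Set T) : Subgroup T) ∣ 9 := by
      rw [← hR9]; exact card_dvd_of_le inf_le_left
    have key : ∀ n ∈ Nat.divisors 9, 9 % 5 = n % 5 → n = 9 := by decide +kernel
    have h5 := key _ (Nat.mem_divisors.2 ⟨h4, by norm_num⟩) h3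
    have h6 : 9 ∣ Nat.card (centralizer ({(y : T)} : Set T)) := by
      rw [← h5]; exact card_dvd_of_le inf_le_right
    rcases card_C_five D hy' with h | h
    · rw [h] at h6; norm_num at h6
    · rw [h] at h6; norm_num at h6

theorem K_norm (tab : OrderTable.{u}) (known : Known.{u}) {K : Subgroup T} (h25 : 25 ∣ Nat.card K)
    (h7 : ¬ 7 ∣ Nat.card K) {w : T} (hw : w ∈ H0) (hw5 : orderOf w = 5) (hwK : w ∈ K) (hdK : d ∈ K) :
    ∀ k ∈ K, k * w * k⁻¹ ∈ zpowers w := by
  haveI : Fact (Nat.Prime 5) := ⟨by norm_num⟩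
  obtain ⟨P, hPK⟩ : ∃ P : Sylow 5 T, (P : Subgroup T) ≤ K := by
    obtain ⟨Q, hQ⟩ := Sylow.exists_subgroup_card_pow_prime (G := K) 5 (n := 2) (by simpa using h25)
    have hf : (Nat.card T).factorization 5 = 2 := by
      rw [card_T D, show (604800 : ℕ) = 5 ^ 2 * 24192 by norm_num, Nat.factorization_mul (by norm_num) (by norm_num),
        Nat.Prime.factorization_pow (by norm_num), Finsupp.add_apply, Finsupp.single_eq_same,
        Nat.factorization_eq_zero_of_not_dvd (by norm_num)]
    refine ⟨Sylow.ofCard (Q.map K.subtype) (by rw [card_map_of_injective K.subtype_injective, hQ, hf]), ?_⟩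
    rintro _ ⟨x, -, rfl⟩
    exact x.2
  have hK := card_K D h7
  by_contra hno
  refine no_nonab D tab known h25 h7 fun N hN hab => ?_
  by_contra hne
  have hc1 : Nat.card N ≠ 1 := fun h => hne (Subgroup.card_eq_one.1 h)
  obtain ⟨p, hp, hpd⟩ := Nat.exists_prime_and_dvd hc1
  haveI : Fact p.Prime := ⟨hp⟩
  obtain ⟨a, ha⟩ := exists_prime_orderOf_dvd_card' (G := N) p hpd
  -- the elements of order `p`
  let M : Subgroup T := {
    carrier := {x | ∃ y ∈ N, (y : T) = x ∧ x ^ p = 1}
    one_mem' := ⟨1, N.one_mem, rfl, one_pow p⟩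
    mul_mem' := by
      rintro _ _ ⟨x, hx, rfl, hxp⟩ ⟨y, hy, rfl, hyp⟩
      refine ⟨x * y, N.mul_mem hx hy, rfl, ?_⟩
      have h1 : Commute (x : T) y := congrArg Subtype.val (hab x hx y hy)
      rw [h1.mul_pow, hxp, hyp, one_mul]
    inv_mem' := by
      rintro _ ⟨x, hx, rfl, hxp⟩
      exact ⟨x⁻¹, N.inv_mem hx, rfl, by rw [inv_pow, hxp, inv_one]⟩ }
  have hMK : M ≤ K := by
    rintro _ ⟨x, -, rfl, -⟩
    exact x.2
  have hM : ∀ k ∈ K, ∀ x ∈ M, k * x * k⁻¹ ∈ M := by
    rintro k hk _ ⟨x, hx, rfl, hxp⟩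
    refine ⟨⟨k, hk⟩ * x * ⟨k, hk⟩⁻¹, hN.conj_mem x hx _, rfl, ?_⟩
    rw [conj_pow, hxp, mul_one, mul_inv_cancel]
  have hMp : IsPGroup p M := by
    rintro ⟨_, ⟨x, hx, rfl, hxp⟩⟩
    exact ⟨1, Subtype.ext (by simpa using hxp)⟩
  have hM1 : M ≠ ⊥ := by
    intro h
    have h1 : ((a : K) : T) ∈ M := ⟨a, a.2, rfl, by rw [← ha, ← orderOf_coe, ← orderOf_coe, pow_orderOf_eq_one]⟩
    rw [h, mem_bot] at h1
    have h2 : a = 1 := Subtype.ext (Subtype.ext h1)
    rw [h2, orderOf_one] at ha
    exact hp.one_lt.ne ha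
  have hMc : Nat.card M ∣ 86400 := (card_dvd_of_le hMK).trans hK
  obtain ⟨k, hk⟩ := IsPGroup.iff_card.1 hMp
  have hpK : p ∣ 86400 := by
    refine dvd_trans ?_ hMc
    rw [hk]
    apply dvd_pow_self
    rintro rfl
    rw [pow_zero] at hk
    exact hM1 (Subgroup.card_eq_one.1 hk)
  have hp235 : p = 2 ∨ p = 3 ∨ p = 5 := by
    rw [show (86400 : ℕ) = 2 ^ 7 * (3 ^ 3 * 5 ^ 2) by norm_num, hp.dvd_mul, hp.dvd_mul] at hpK
    rcases hpK with h | h | h
    · exact Or.inl ((Nat.prime_dvd_prime_iff_eq hp (by norm_num)).1 (hp.dvd_of_dvd_pow h))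
    · exact Or.inr (Or.inl ((Nat.prime_dvd_prime_iff_eq hp (by norm_num)).1 (hp.dvd_of_dvd_pow h)))
    · exact Or.inr (Or.inr ((Nat.prime_dvd_prime_iff_eq hp (by norm_num)).1 (hp.dvd_of_dvd_pow h)))
  rw [hk] at hMc
  rcases hp235 with rfl | rfl | rfl
  · apply hM1
    apply bot_of_two_three D (P := P) (fun q hq x hx => hM q (hPK hq) x hx)
    left
    rw [hk]
    rw [show (86400 : ℕ) = 128 * 675 by norm_num] at hMc
    exact (Nat.Coprime.pow_left k (by norm_num)).dvd_of_dvd_mul_right hMc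
  · apply hM1
    apply bot_of_two_three D (P := P) (fun q hq x hx => hM q (hPK hq) x hx)
    right
    rw [hk]
    rw [show (86400 : ℕ) = 27 * 3200 by norm_num] at hMc
    exact (Nat.Coprime.pow_left k (by norm_num)).dvd_of_dvd_mul_right hMc
  · apply hno
    have h1 := eq_of_five D hMK hM hM1 (by
      rw [hk]
      rw [show (86400 : ℕ) = 25 * 3456 by norm_num] at hMc
      exact (Nat.Coprime.pow_left k (by norm_num)).dvd_of_dvd_mul_right hMc) hw hw5 hwK hdK
    intro k hk
    have h2 := hM k hk w (by rw [h1]; exact mem_zpowers w)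
    rwa [h1] at h2

theorem sq_comm {w k : T} (hw5 : orderOf w = 5) (h : k * w * k⁻¹ ∈ zpowers w) : k ^ 2 * w = w * k ^ 2 := by
  classical
  have hfin : IsOfFinOrder w := orderOf_pos_iff.mp (by rw [hw5]; norm_num)
  rw [hfin.mem_zpowers_iff_mem_range_orderOf, hw5, Finset.mem_image] at h
  obtain ⟨i, hi, hki⟩ := h
  rw [Finset.mem_range] at hi
  have w5 : w ^ 5 = 1 := by rw [← hw5, pow_orderOf_eq_one]
  have hcj : IsConj w (w ^ i) := isConj_iff.2 ⟨k, hki.symm⟩
  have h1 : ∀ n : ℕ, k * w ^ n * k⁻¹ = w ^ (i * n) := by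
    intro n
    rw [← conj_pow, ← hki, pow_mul]
  have h2 : k ^ 2 * w * (k ^ 2)⁻¹ = w ^ (i * i) := by
    calc k ^ 2 * w * (k ^ 2)⁻¹ = k * (k * w * k⁻¹) * k⁻¹ := by
          rw [pow_two, mul_inv_rev]
          simp only [mul_assoc]
      _ = w ^ (i * i) := by rw [← hki, h1]
  have h3 : w ^ (i * i) = w := by
    interval_cases i
    · exfalso
      rw [pow_zero] at hki
      have h4 : w = 1 := by
        have : k * w * k⁻¹ = 1 := hki.symm
        rw [mul_inv_eq_one] at this
        exact mul_eq_left.1 this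
      rw [h4, orderOf_one] at hw5
      norm_num at hw5
    · simp
    · exact absurd hcj (nsq D hw5)
    · exfalso
      have h4 := hcj.pow 2
      rw [← pow_mul, show 3 * 2 = 5 + 1 by norm_num, pow_add, w5, one_mul, pow_one] at h4
      exact nsq D hw5 h4.symm
    · rw [show 4 * 4 = 5 * 3 + 1 by norm_num, pow_add, pow_mul, w5, one_pow, one_mul, pow_one]
  rw [h3] at h2
  calc k ^ 2 * w = (k ^ 2 * w * (k ^ 2)⁻¹) * k ^ 2 := by group
    _ = w * k ^ 2 := by rw [h2]

/-- elements of order 12 do not normalise `⟨w⟩` -/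
theorem no12 {w x : T} (hw : w ∈ H0) (hw5 : orderOf w = 5) (hx : orderOf x = 12) (h : x * w * x⁻¹ ∈ zpowers w) :
    False := by
  have h1 : Commute (x ^ 2) w := sq_comm D hw5 h
  have h4 : Commute (x ^ 4) w := by
    rw [show 4 = 2 * 2 by norm_num, pow_mul]
    exact h1.pow_left 2
  have h6 : Commute (x ^ 6) w := by
    rw [show 6 = 2 * 3 by norm_num, pow_mul]
    exact h1.pow_left 3
  have o4 : orderOf (x ^ 4) = 3 := by
    rw [orderOf_pow_of_dvd (by norm_num) (by rw [hx]; norm_num), hx]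
  have o6 : orderOf (x ^ 6) = 2 := by
    rw [orderOf_pow_of_dvd (by norm_num) (by rw [hx]; norm_num), hx]
  have h15 := fifteen D hw hw5 o4 h4.eq
  have h2 := dvd_of_mem (mem_inf.2 ⟨mem_centralizer_singleton_iff.2 h6.eq,
    mem_centralizer_singleton_iff.2 (Commute.pow_pow_self x 6 4).eq⟩ :
    x ^ 6 ∈ centralizer ({w} : Set T) ⊓ centralizer ({x ^ 4} : Set T))
  rw [h15, o6] at h2
  norm_num at h2

/-- elements of order 3 with centralizer of order 36 do not normalise `⟨w⟩` -/
theorem no36 {w t : T} (hw5 : orderOf w = 5) (ht : orderOf t = 3)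
    (hc : Nat.card (centralizer ({t} : Set T)) = 36) (h : t * w * t⁻¹ ∈ zpowers w) : False := by
  have h1 : Commute (t ^ 2) w := sq_comm D hw5 h
  have h2 : t = (t ^ 2) ^ 2 := by
    rw [← pow_mul, show 2 * 2 = 3 + 1 by norm_num, pow_add, ← ht, pow_orderOf_eq_one, one_mul, pow_one]
  have h3 : Commute t w := by
    rw [h2]
    exact h1.pow_left 2
  have h4 := dvd_of_mem (mem_centralizer_singleton_iff.2 h3.symm.eq : w ∈ centralizer ({t} : Set T))
  rw [hc, hw5] at h4
  norm_num at h4

end Cfsg.Agent.H921.Cov.JA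

/-!
# S2499 (normal 2-coverings): the Hall–Janko group (helper921)

`noTwo_j2` : elements `y7` (order 7), `x15` (order 15), `v` (order 5, commuting with a 2A-involution), `x12`, `x6`
(order 6, cube 2B): a proper subgroup with `y7` avoids `x15` and `v`, a proper subgroup with `x15` and `v` avoids `x12`
and `x6`, no proper subgroup has `y7`, `x12` and `x6`.
-/


namespace Cfsg.Agent.H921.Cov.JA

open Subgroup Cfsg.Agent.J2Type Cfsg.Agent.J2Type.Base Cfsg.Agent.J2Type.CentU Cfsg.Agent.J2Type.SylowFive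
open Cfsg.Agent.H257.Cov Cfsg.Agent.H257.El Cfsg.Agent.OrdDiv Cfsg.Agent.H278.Cov

universe u

abbrev fac : List (ℕ × ℕ) := [(2, 7), (3, 3), (5, 2), (7, 1)]

section
variable {T : Type u} [Group T] {z u f d : T} {U V H0 : Subgroup T} [Finite T] (D : Dt z u f d U V H0)
include D

theorem le_card (hlb : ∀ M : Subgroup T, M ≠ ⊤ → 32 ≤ M.index) {R : Subgroup T} (hR : R ≠ ⊤) :
    Nat.card R ≤ 18900 := by
  have h1 := hlb R hR
  have h2 := R.card_mul_index
  rw [card_T D] at h2
  have h3 : Nat.card R * 32 ≤ Nat.card R * R.index := Nat.mul_le_mul_left _ h1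
  omega

theorem no35 (tab : OrderTable.{u}) (known : Known.{u}) (hlb : ∀ M : Subgroup T, M ≠ ⊤ → 32 ≤ M.index)
    {R : Subgroup T} (hR : R ≠ ⊤) (h7 : 7 ∣ Nat.card R) (h5 : 5 ∣ Nat.card R) : False := by
  have hiso := isol7 D
  have hss : ∀ s ∈ [5], s.Prime ∧ ∀ z : T, orderOf z ≠ 7 * s := by
    intro s hs
    rw [List.mem_singleton] at hs
    subst hs
    exact ⟨by norm_num, hiso 5 (by norm_num) (by norm_num)⟩
  obtain ⟨-, O, hO, N, h, -, -, hna, g, hg, hreal, hcard⟩ := exists_surv_ex tab known (l := fac) [5] (card_T D)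
    (by norm_num : Nat.Prime 7) hss (by decide +kernel) hR h7 (fun s hs => by
      rw [List.mem_singleton] at hs
      subst hs
      exact h5)
  have hle := le_card D hlb hR
  have hRc := card_quot_mul O
  have hNc := N.card_mul_index
  have hmod := card_core_mod h (hiso.sub R)
  have hO0 : 0 < Nat.card O := Nat.card_pos
  have hN0 : 0 < N.index := Nat.pos_of_ne_zero N.index_ne_zero_of_finite
  have key : ∀ g ∈ surv 604800 fac 7 [5], g = .alt 7 ∨ ordN g = 20160 := by decide +kernel
  have hbig : Nat.card N ≤ Nat.card R := by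
    rw [← hRc, ← hNc, mul_assoc]
    exact Nat.le_mul_of_pos_right _ (Nat.mul_pos hN0 hO0)
  rcases key g hg with rfl | h1
  · have hN : Nat.card N = 2520 := by rw [hcard]; decide
    have hO1 : Nat.card O = 1 := by
      have h2 : 2520 * Nat.card O ≤ 18900 := by
        refine le_trans ?_ hle
        rw [← hRc, ← hNc, hN]
        exact Nat.mul_le_mul_right _ (Nat.le_mul_of_pos_right _ hN0)
      omega
    have hOb : O = ⊥ := Subgroup.card_eq_one.1 hO1
    have hinj : Function.Injective (QuotientGroup.mk' O) := by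
      rw [← MonoidHom.ker_eq_bot_iff, QuotientGroup.ker_mk', hOb]
    obtain ⟨s, hs5, hs⟩ := alt7_sq hreal
    obtain ⟨a, ha⟩ := QuotientGroup.mk'_surjective O (s : R ⧸ O)
    obtain ⟨c, hc⟩ := isConj_iff.1 hs
    obtain ⟨b, hb⟩ := QuotientGroup.mk'_surjective O (c : R ⧸ O)
    have h2 : b * a * b⁻¹ = a ^ 2 := by
      apply hinj
      rw [map_mul, map_mul, map_inv, map_pow, ha, hb]
      exact congrArg Subtype.val hc
    have h3 : orderOf (a : T) = 5 := by
      rw [orderOf_coe, ← orderOf_injective _ hinj a, ha, orderOf_coe, hs5]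
    exact nsq D h3 (isConj_iff.2 ⟨b, congrArg Subtype.val h2⟩)
  · rw [hcard, h1] at hbig
    omega

theorem H_main (tab : OrderTable.{u}) (known : Known.{u}) [IsSimpleGroup T]
    (hlb : ∀ M : Subgroup T, M ≠ ⊤ → 32 ≤ M.index) {R : Subgroup T} (hR : R ≠ ⊤) (h7 : 7 ∣ Nat.card R)
    (h5 : ¬ 5 ∣ Nat.card R) {x y : T} (hx : x ∈ R) (hy : y ∈ R) (hx12 : orderOf x = 12) (hx6 : IsConj z (x ^ 6))
    (hx4 : Nat.card (centralizer ({x ^ 4} : Set T)) = 1080) (hy3 : IsConj u (y ^ 3)) (hy4 : orderOf (y ^ 4) = 3)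
    (hyc : Nat.card (centralizer ({y ^ 4} : Set T)) = 36) : False := by
  haveI : Fact (Nat.Prime 3) := ⟨by norm_num⟩
  have hiso := isol7 D
  have o4 : orderOf (x ^ 4) = 3 := by
    rw [orderOf_pow_of_dvd (by norm_num) (by rw [hx12]; norm_num), hx12]
  -- `9` divides the order
  have h9 : 9 ∣ Nat.card R := by
    by_contra h9
    have h3 : 3 ∣ Nat.card R := by
      have := dvd_of_mem (R.pow_mem hx 4)
      rwa [o4] at this
    have hf : (Nat.card R).factorization 3 = 1 := by
      have h2 : Nat.card R ≠ 0 := Nat.card_pos.ne'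
      have h3 := ((by norm_num : Nat.Prime 3).dvd_iff_one_le_factorization h2).1 h3
      have h4 : ¬ 2 ≤ (Nat.card R).factorization 3 := fun h => by
        have := ((by norm_num : Nat.Prime 3).pow_dvd_iff_le_factorization h2).2 h
        exact h9 (by simpa using this)
      omega
    let a : R := ⟨x ^ 4, R.pow_mem hx 4⟩
    let b : R := ⟨y ^ 4, R.pow_mem hy 4⟩
    have oa : orderOf a = 3 := by rw [← orderOf_coe]; exact o4
    have ob : orderOf b = 3 := by rw [← orderOf_coe]; exact hy4
    let A : Sylow 3 R := Sylow.ofCard (zpowers a) (by rw [Nat.card_zpowers, oa, hf, pow_one])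
    let B : Sylow 3 R := Sylow.ofCard (zpowers b) (by rw [Nat.card_zpowers, ob, hf, pow_one])
    obtain ⟨g, hg⟩ := MulAction.exists_smul_eq R A B
    have h1 : g * a * g⁻¹ ∈ (B : Subgroup R) := by
      rw [← hg, Sylow.smul_def]
      exact ⟨a, mem_zpowers a, rfl⟩
    have h2 : g * a * g⁻¹ ∈ zpowers b := h1
    have h3' : ((g * a * g⁻¹ : R) : T) ∈ zpowers (b : T) := by
      obtain ⟨k, hk⟩ := mem_zpowers_iff.1 h2
      exact mem_zpowers_iff.2 ⟨k, congrArg Subtype.val hk⟩
    have h4 : Nat.card (centralizer ({((g * a * g⁻¹ : R) : T)} : Set T)) = 1080 := by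
      rw [← hx4]
      exact (Cent5.card_centralizer_of_isConj (isConj_iff.2 ⟨(g : T), rfl⟩ :
        IsConj (x ^ 4) ((g : T) * x ^ 4 * (g : T)⁻¹))).symm
    have h5 : centralizer ({y ^ 4} : Set T) ≤ centralizer ({((g * a * g⁻¹ : R) : T)} : Set T) := by
      obtain ⟨k, hk⟩ := mem_zpowers_iff.1 h3'
      intro c hc
      rw [mem_centralizer_singleton_iff] at hc ⊢
      rw [← hk]
      exact ((show Commute c (y ^ 4) from hc).zpow_right k).eq
    have h6 : y ^ 4 ∈ zpowers ((g * a * g⁻¹ : R) : T) := by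
      have h7 : zpowers ((g * a * g⁻¹ : R) : T) = zpowers (b : T) := by
        apply eq_of_le_of_card_ge (zpowers_le.2 h3')
        rw [Nat.card_zpowers, Nat.card_zpowers]
        have h8 : orderOf ((g * a * g⁻¹ : R) : T) = 3 := by
          have := ord_conj D (g : T) (x ^ 4)
          rw [o4] at this
          exact this
        rw [h8]
        exact hy4.le
      rw [h7]
      exact mem_zpowers _
    have h7 : centralizer ({((g * a * g⁻¹ : R) : T)} : Set T) ≤ centralizer ({y ^ 4} : Set T) := by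
      obtain ⟨k, hk⟩ := mem_zpowers_iff.1 h6
      intro c hc
      rw [mem_centralizer_singleton_iff] at hc ⊢
      rw [← hk]
      exact ((show Commute c ((g * a * g⁻¹ : R) : T) from hc).zpow_right k).eq
    rw [← le_antisymm h5 h7, hyc] at h4
    norm_num at h4
  have S : SitP T 604800 fac 7 R := sitP_of tab known (card_T D) (by decide +kernel) (by norm_num)
    (by decide +kernel) hR h7
  obtain ⟨O, hO, N, h⟩ := S.exists_top
  have hcore : ¬ 3 ∣ Nat.card O := h.not_dvd_core (by norm_num) (by norm_num)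
    (SitP.noR (hiso 3 (by norm_num) (by norm_num))) (fun b hb hd => okPow_spec S.valid (by decide +kernel)
      (by norm_num) hb (hd.trans S.dvd_n))
  have hRc := card_quot_mul O
  have hNc := N.card_mul_index
  have hle := le_card D hlb hR
  have hmod := card_core_mod h (hiso.sub R)
  have hO0 : 0 < Nat.card O := Nat.card_pos
  have hN0 : 0 < N.index := Nat.pos_of_ne_zero N.index_ne_zero_of_finite
  obtain ⟨i1, i2⟩ := index_dvd_E hiso (by rw [card_T D]; norm_num) (by rw [card_T D]; norm_num) h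
  have hE : H257.Cov.E (Nat.card T) 7 = 6 := by rw [card_T D]; rfl
  rw [hE] at i1 i2
  have h9' : 9 ∣ Nat.card N * N.index := by
    have h1 : Nat.Coprime 9 (Nat.card O) := by
      have : Nat.Coprime 3 (Nat.card O) := (Nat.Prime.coprime_iff_not_dvd (by norm_num)).2 hcore
      exact (Nat.Coprime.pow_left 2 this)
    rw [← hRc, ← hNc] at h9
    exact h1.dvd_of_dvd_mul_right h9
  by_cases hna : ∀ a b : N, a * b = b * a
  · have h1 := h.card_of_comm hna
    rw [h1] at h9'
    have h2 : 9 ∣ 7 * 6 := h9'.trans (Nat.mul_dvd_mul_left 7 (i1 hna))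
    norm_num at h2
  have i3 := i2 hna
  obtain ⟨g, hg, hreal, hcard⟩ := S.exists_surv h hna [] (by simp)
  have key : ∀ g ∈ surv 604800 fac 7 [], g = .psl 2 8 ∨ g = .psu 3 3 ∨ 5 ∣ ordN g ∨ ordN g = 168 := by
    decide +kernel
  rcases key g hg with rfl | rfl | h1 | h1
  · -- `PSL₂(8)`
    obtain ⟨s, hs⟩ := exists_nine hreal
    obtain ⟨a, ha⟩ := QuotientGroup.mk'_surjective O (s : R ⧸ O)
    obtain ⟨k, hk⟩ := exists_lift (QuotientGroup.mk' O) (z := a) (n := 9) (by rw [ha, orderOf_coe, hs])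
    apply nine D ((a ^ k : R) : T)
    rw [orderOf_coe, hk]
  · -- `PSU₃(3)`
    have hN : Nat.card N = 6048 := by rw [hcard]; decide +kernel
    have hO1 : Nat.card O = 1 := by
      have h2 : 6048 * Nat.card O ≤ 18900 := by
        refine le_trans ?_ hle
        rw [← hRc, ← hNc, hN]
        exact Nat.mul_le_mul_right _ (Nat.le_mul_of_pos_right _ hN0)
      omega
    have hOb : O = ⊥ := Subgroup.card_eq_one.1 hO1
    have hi : N.index = 1 ∨ N.index = 2 := by
      rw [hN] at i3
      have h2 : N.index ∣ 2 := by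
        have h3 : H257.Cov.E 6048 7 = 3 := rfl
        rw [h3] at i3
        exact Nat.dvd_of_mul_dvd_mul_left (by norm_num : 0 < 3) i3
      exact (Nat.dvd_prime (by norm_num)).1 h2
    rw [hO1, mul_one] at hRc
    rcases hi with hi | hi
    · have hNt : N = ⊤ := index_eq_one.1 hi
      have hinj : Function.Injective (QuotientGroup.mk' O) := by
        rw [← MonoidHom.ker_eq_bot_iff, QuotientGroup.ker_mk', hOb]
      have p6 : orderOf (x ^ 6) = 2 := by
        rw [← SylowFive.orderOf_eq_of_isConj hx6, D.F.hz]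
      have p3 : orderOf (y ^ 3) = 2 := by
        rw [← SylowFive.orderOf_eq_of_isConj hy3, D.F.hu]
      let a : R := ⟨x ^ 6, R.pow_mem hx 6⟩
      let b : R := ⟨y ^ 3, R.pow_mem hy 3⟩
      let a' : N := ⟨QuotientGroup.mk' O a, by rw [hNt]; exact mem_top _⟩
      let b' : N := ⟨QuotientGroup.mk' O b, by rw [hNt]; exact mem_top _⟩
      have oa : orderOf a' = 2 := by
        rw [← orderOf_coe]
        show orderOf (QuotientGroup.mk' O a) = 2
        rw [orderOf_injective _ hinj a, ← orderOf_coe]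
        exact p6
      have ob : orderOf b' = 2 := by
        rw [← orderOf_coe]
        show orderOf (QuotientGroup.mk' O b) = 2
        rw [orderOf_injective _ hinj b, ← orderOf_coe]
        exact p3
      obtain ⟨c, hc⟩ := isConj_iff.1 (one_class hreal a' b' oa ob)
      obtain ⟨c', hc'⟩ := QuotientGroup.mk'_surjective O (c : R ⧸ O)
      have h2 : c' * a * c'⁻¹ = b := by
        apply hinj
        rw [map_mul, map_mul, map_inv, hc']
        exact congrArg Subtype.val hc
      have h3 : IsConj (x ^ 6) (y ^ 3) := isConj_iff.2 ⟨c', congrArg Subtype.val h2⟩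
      exact D.F.nconj ((hx6.trans h3).trans hy3.symm)
    · apply index_ne_fifty D R
      have h2 := R.card_mul_index
      rw [← hRc, ← hNc, hN, hi, card_T D] at h2
      omega
  · apply h5
    rw [← hcard] at h1
    rw [← hRc, ← hNc]
    exact (h1.mul_right _).mul_right _
  · rw [← hcard] at h1
    rw [h1] at h9' i3
    have h2 : N.index ∣ 2 := by
      have h3 : H257.Cov.E 168 7 = 3 := rfl
      rw [h3] at i3
      exact Nat.dvd_of_mul_dvd_mul_left (by norm_num : 0 < 3) i3
    have h3 : 9 ∣ 168 * 2 := h9'.trans (Nat.mul_dvd_mul_left 168 h2)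
    norm_num at h3

end

/-- **S2499 for the Hall–Janko group** -/
theorem noTwo_j2 (tab : OrderTable.{u}) (known : Known.{u}) {T : Type u} [Group T] [Finite T]
    (hT : Spor.IsoJ2 T) : NoTwo T := by
  have hs := isSimple hT
  have hlb := lb hT
  obtain ⟨z, u, f, d, U, V, H0, D⟩ := exists_dt hT
  haveI : Fact (Nat.Prime 7) := ⟨by norm_num⟩
  haveI : Fact (Nat.Prime 5) := ⟨by norm_num⟩
  obtain ⟨y7, hy7⟩ := exists_prime_orderOf_dvd_card' (G := T) 7 (by rw [card_T D]; norm_num)
  obtain ⟨w, hw, hw5⟩ := exists_w D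
  obtain ⟨v, hv5, hv⟩ := ThreeD.exists_w0 D.F
  obtain ⟨x12, o12, hx6, hx4⟩ := exists_x12 D
  obtain ⟨x6, o6, h63, h64, h6c⟩ := exists_x6 D
  have hdw : Commute d w := D.dH w hw
  -- the element of order 15
  have hw1 : ∃ k : ℕ, (w * d) ^ k = w := by
    refine ⟨6, ?_⟩
    have h1 : w ^ 5 = 1 := by rw [← hw5, pow_orderOf_eq_one]
    have h2 : d ^ 3 = 1 := by rw [← D.hd, pow_orderOf_eq_one]
    rw [hdw.symm.mul_pow, show 6 = 5 + 1 by norm_num, pow_add, h1, one_mul, pow_one,
      show 5 + 1 = 3 * 2 by norm_num, pow_mul, h2, one_pow, mul_one]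
  have hd1 : ∃ k : ℕ, (w * d) ^ k = d := by
    refine ⟨10, ?_⟩
    have h1 : w ^ 5 = 1 := by rw [← hw5, pow_orderOf_eq_one]
    have h2 : d ^ 3 = 1 := by rw [← D.hd, pow_orderOf_eq_one]
    rw [hdw.symm.mul_pow, show 10 = 5 * 2 by norm_num, pow_mul, h1, one_pow, one_mul,
      show 5 * 2 = 3 * 3 + 1 by norm_num, pow_add, pow_mul, h2, one_pow, one_mul, pow_one]
  have ho : ∀ a t : T, orderOf (a * t * a⁻¹) = orderOf t := fun a t => ord_conj D a t
  -- a proper subgroup containing `x15` and `v`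
  have hK : ∀ K : Subgroup T, K ≠ ⊤ → ¬ Av (w * d) K → ¬ Av v K → Av x12 K ∧ Av x6 K := by
    intro K hK h15 h5
    obtain ⟨g, hg⟩ := not_av h15
    obtain ⟨k, hk⟩ := not_av h5
    -- conjugate `K`
    let K' : Subgroup T := K.comap (MulAut.conj g).toMonoidHom
    have hK' : ∀ t : T, t ∈ K' ↔ g * t * g⁻¹ ∈ K := fun t => Iff.rfl
    have hcK : Nat.card K' = Nat.card K := by
      have h1 : K' = K.map (MulAut.conj g⁻¹).toMonoidHom := by
        ext t
        rw [hK', mem_map]
        constructor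
        · intro h
          refine ⟨_, h, ?_⟩
          show g⁻¹ * (g * t * g⁻¹) * g⁻¹⁻¹ = t
          group
        · rintro ⟨s, hs, rfl⟩
          show g * (g⁻¹ * s * g⁻¹⁻¹) * g⁻¹ ∈ K
          rwa [show g * (g⁻¹ * s * g⁻¹⁻¹) * g⁻¹ = s by group]
      rw [h1, card_map_of_injective (MulAut.conj g⁻¹).injective]
    have hxK : w * d ∈ K' := (hK' _).2 hg
    have hwK : w ∈ K' := by
      obtain ⟨j, hj⟩ := hw1
      rw [← hj]
      exact pow_mem hxK j
    have hdK : d ∈ K' := by
      obtain ⟨j, hj⟩ := hd1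
      rw [← hj]
      exact pow_mem hxK j
    have h5K : 5 ∣ Nat.card K := by
      have := dvd_of_mem hk
      rwa [ho, hv5] at this
    have h7 : ¬ 7 ∣ Nat.card K := fun h => no35 D tab known hlb hK h h5K
    have h25 : 25 ∣ Nat.card K := by
      by_contra h25
      have hf : (Nat.card K).factorization 5 = 1 := by
        have h2 : Nat.card K ≠ 0 := Nat.card_pos.ne'
        have h3 := ((by norm_num : Nat.Prime 5).dvd_iff_one_le_factorization h2).1 h5K
        have h4 : ¬ 2 ≤ (Nat.card K).factorization 5 := fun h => by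
          have := ((by norm_num : Nat.Prime 5).pow_dvd_iff_le_factorization h2).2 h
          exact h25 (by simpa using this)
        omega
      have hgw : g * w * g⁻¹ ∈ K := (hK' _).1 hwK
      let a : K := ⟨g * w * g⁻¹, hgw⟩
      let b : K := ⟨k * v * k⁻¹, hk⟩
      have oa' : orderOf (a : T) = 5 := (ho g w).trans hw5
      have ob' : orderOf (b : T) = 5 := (ho k v).trans hv5
      have oa : orderOf a = 5 := by rw [← orderOf_coe]; exact oa'
      have ob : orderOf b = 5 := by rw [← orderOf_coe]; exact ob'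
      let A : Sylow 5 K := Sylow.ofCard (zpowers a) (by rw [Nat.card_zpowers, oa, hf, pow_one])
      let B : Sylow 5 K := Sylow.ofCard (zpowers b) (by rw [Nat.card_zpowers, ob, hf, pow_one])
      obtain ⟨c, hc⟩ := MulAction.exists_smul_eq K A B
      have h1 : c * a * c⁻¹ ∈ (B : Subgroup K) := by
        rw [← hc, Sylow.smul_def]
        exact ⟨a, mem_zpowers a, rfl⟩
      have h2 : c * a * c⁻¹ ∈ zpowers b := h1
      obtain ⟨j, hj⟩ := mem_zpowers_iff.1 h2
      have h3 : (b : T) ^ j = c * a * (c : T)⁻¹ := congrArg Subtype.val hj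
      have h4 : Nat.card (centralizer ({(c : T) * a * (c : T)⁻¹} : Set T)) = 300 := by
        rw [← Cent5.card_centralizer_of_isConj (isConj_iff.2 ⟨(c : T), rfl⟩ :
          IsConj (a : T) ((c : T) * a * (c : T)⁻¹)), ← Cent5.card_centralizer_of_isConj (isConj_iff.2 ⟨g, rfl⟩ :
          IsConj w (a : T)), card_C_w D hw hw5]
      have h5 : Nat.card (centralizer ({(b : T)} : Set T)) = 50 := by
        rw [← Cent5.card_centralizer_of_isConj (isConj_iff.2 ⟨k, rfl⟩ : IsConj v (b : T)), card_C_v D hv5 hv]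
      have h6 : zpowers ((c : T) * a * (c : T)⁻¹) = zpowers (b : T) := by
        apply eq_of_le_of_card_ge
        · rw [zpowers_le, ← h3]
          exact zpow_mem_zpowers _ j
        · rw [Nat.card_zpowers, Nat.card_zpowers, ob', ho, oa']
      rw [← centralizer_zpowers, h6, centralizer_zpowers, h5] at h4
      norm_num at h4
    have hnorm := K_norm D tab known (K := K') (by rw [hcK]; exact h25) (by rw [hcK]; exact h7) hw hw5 hwK hdK
    have hcj : ∀ (s a : T), a * s * a⁻¹ ∈ K → (g⁻¹ * a) * s * (g⁻¹ * a)⁻¹ ∈ K' := by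
      intro s a ha
      rw [hK']
      rwa [show g * (g⁻¹ * a * s * (g⁻¹ * a)⁻¹) * g⁻¹ = a * s * a⁻¹ by group]
    constructor
    · by_contra hav
      obtain ⟨a, ha⟩ := not_av hav
      exact no12 D hw hw5 ((ho _ x12).trans o12) (hnorm _ (hcj _ a ha))
    · by_contra hav
      obtain ⟨a, ha⟩ := not_av hav
      have h1 := pow_mem (hcj _ a ha) 4
      rw [conj_pow] at h1
      refine no36 D hw5 ((ho _ _).trans h64) ?_ (hnorm _ h1)
      rw [← Cent5.card_centralizer_of_isConj (isConj_iff.2 ⟨g⁻¹ * a, rfl⟩ :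
        IsConj (x6 ^ 4) (g⁻¹ * a * x6 ^ 4 * (g⁻¹ * a)⁻¹)), h6c]
  have main : ∀ H K : Subgroup T, H ≠ ⊤ → K ≠ ⊤ → ¬ Av y7 H → ∃ t : T, Av t H ∧ Av t K := by
    intro H K hH hK' h7
    obtain ⟨a, ha⟩ := not_av h7
    have h7H : 7 ∣ Nat.card H := by
      have := dvd_of_mem ha
      rwa [ho, hy7] at this
    have h5H : ¬ 5 ∣ Nat.card H := fun h => no35 D tab known hlb hH h7H h
    have av5 : ∀ t : T, 5 ∣ orderOf t → Av t H := by
      intro t ht
      by_contra hav
      obtain ⟨b, hb⟩ := not_av hav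
      have := dvd_of_mem hb
      rw [ho] at this
      exact h5H (ht.trans this)
    have av15 : Av (w * d) H := by
      apply av5
      rw [hdw.symm.orderOf_mul_eq_mul_orderOf_of_coprime (by rw [hw5, D.hd]; norm_num), hw5]
      exact dvd_mul_right _ _
    have avv : Av v H := av5 v (by rw [hv5])
    by_contra hno
    push Not at hno
    obtain ⟨k12, k6⟩ := hK K hK' (hno _ av15) (hno _ avv)
    have n12 : ¬ Av x12 H := fun h => hno _ h k12
    have n6 : ¬ Av x6 H := fun h => hno _ h k6
    obtain ⟨b, hb⟩ := not_av n12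
    obtain ⟨c, hc⟩ := not_av n6
    have cj : ∀ (s b : T), IsConj s (b * s * b⁻¹) := fun s b => isConj_iff.2 ⟨b, rfl⟩
    refine H_main D tab known hlb hH h7H h5H hb hc ((ho _ _).trans o12) ?_ ?_ ?_ ?_ ?_
    · rw [conj_pow]
      exact hx6.trans (cj _ _)
    · rw [conj_pow, ← Cent5.card_centralizer_of_isConj (cj _ _), hx4]
    · rw [conj_pow, h63]
      exact cj _ _
    · rw [conj_pow, ho, h64]
    · rw [conj_pow, ← Cent5.card_centralizer_of_isConj (cj _ _), h6c]
  intro H K hH hK'
  by_cases h1 : Av y7 H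
  · by_cases h2 : Av y7 K
    · exact ⟨y7, h1, h2⟩
    · obtain ⟨t, h3, h4⟩ := main K H hK' hH h2
      exact ⟨t, h4, h3⟩
  · exact main H K hH hK' h1

end Cfsg.Agent.H921.Cov.JA
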