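import Cfsg.Agent.H257.Cov.Tools

/-!
# Orbit arguments (helper921, S2499)

* `three_le` : a normal subgroup `M` of prime index `r` containing an element `x` with `p, x p, x² p` distinct, the
  elements outside `M` having no fixed point in `S`: `3 r ≤ |S|`;
* `exists_compl` : Burnside transfer: `E |R| = 1` for the isolated prime `r` gives a normal complement;
* `neg_one_of_regular` : an element of order `8` acting on `8` points with `x ^ 4` moving a point is odd.
-/

set_option autoImplicit false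

namespace Cfsg.Agent.H921.Cov

open Subgroup Cfsg.Agent.H257.Cov Cfsg.Agent.H257.El

theorem three_le {R X : Type*} [Group R] [MulAction R X] [Finite X] (M : Subgroup R) [M.Normal] {r : ℕ}
    (hr : r.Prime) (hM : M.index = r) {z : R} (hz : z ∉ M) (S : Set X) (hS : ∀ g : R, ∀ p ∈ S, g • p ∈ S)
    (hfree : ∀ g : R, g ∉ M → ∀ p ∈ S, g • p ≠ p) {x : R} (hx : x ∈ M) {p : X} (hp : p ∈ S)
    (h1 : x • p ≠ p) (h2 : x • x • p ≠ p) : 3 * r ≤ Nat.card S := by
  have hzo : orderOf (z : R ⧸ M) = r := by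
    have : Fact r.Prime := ⟨hr⟩
    have h3 : orderOf (z : R ⧸ M) ∣ r := by
      rw [← hM, Subgroup.index]
      exact _root_.orderOf_dvd_natCard _
    rcases (Nat.dvd_prime hr).1 h3 with h | h
    · rw [orderOf_eq_one_iff, QuotientGroup.eq_one_iff] at h
      exact absurd h hz
    · exact h
  let F : Fin r × Fin 3 → S := fun a => ⟨z ^ (a.1 : ℕ) • x ^ (a.2 : ℕ) • p, hS _ _ (hS _ _ hp)⟩
  have hF : Function.Injective F := by
    rintro ⟨i, j⟩ ⟨i', j'⟩ hij
    have h3 : z ^ (i : ℕ) • x ^ (j : ℕ) • p = z ^ (i' : ℕ) • x ^ (j' : ℕ) • p := congrArg Subtype.val hij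
    have h4 : ((x ^ (j' : ℕ))⁻¹ * (z ^ (i' : ℕ))⁻¹ * z ^ (i : ℕ) * x ^ (j : ℕ)) • p = p := by
      rw [mul_smul, mul_smul, mul_smul, h3, inv_smul_smul, inv_smul_smul]
    have h5 : (x ^ (j' : ℕ))⁻¹ * (z ^ (i' : ℕ))⁻¹ * z ^ (i : ℕ) * x ^ (j : ℕ) ∈ M := by
      by_contra hc
      exact hfree _ hc p hp h4
    have hxk : ∀ k : ℕ, x ^ k ∈ M := fun k => M.pow_mem hx k
    have h6 : (z ^ (i' : ℕ))⁻¹ * z ^ (i : ℕ) ∈ M := by
      have h7 := M.mul_mem (M.mul_mem (hxk j') h5) (M.inv_mem (hxk j))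
      have h8 : x ^ (j' : ℕ) * ((x ^ (j' : ℕ))⁻¹ * (z ^ (i' : ℕ))⁻¹ * z ^ (i : ℕ) * x ^ (j : ℕ)) * (x ^ (j : ℕ))⁻¹ =
          (z ^ (i' : ℕ))⁻¹ * z ^ (i : ℕ) := by group
      rwa [h8] at h7
    have h7 : (z : R ⧸ M) ^ (i : ℕ) = (z : R ⧸ M) ^ (i' : ℕ) := by
      have h8 : ((z ^ (i' : ℕ) : R) : R ⧸ M) = ((z ^ (i : ℕ) : R) : R ⧸ M) := QuotientGroup.eq.2 h6
      exact h8.symm
    have h8 : (i : ℕ) = i' := by
      rw [pow_inj_mod, hzo, Nat.mod_eq_of_lt i.2, Nat.mod_eq_of_lt i'.2] at h7
      exact h7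
    have h9 : i = i' := Fin.ext h8
    subst h9
    have h10 : x ^ (j : ℕ) • p = x ^ (j' : ℕ) • p := smul_left_cancel _ h3
    have h11 : j = j' := by
      have key : ∀ a b : Fin 3, x ^ (a : ℕ) • p = x ^ (b : ℕ) • p → a < b → False := by
        intro a b hab hlt
        have h12 : x ^ ((b : ℕ) - a) • p = p := by
          have h13 : x ^ (b : ℕ) = x ^ (a : ℕ) * x ^ ((b : ℕ) - a) := by
            rw [← pow_add]
            congr 1
            have : (a : ℕ) < b := hlt
            omega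
          rw [h13, mul_smul] at hab
          exact (smul_left_cancel _ hab).symm
        have h14 : (b : ℕ) - a = 1 ∨ (b : ℕ) - a = 2 := by
          have : (a : ℕ) < b := hlt
          have := b.2
          omega
        rcases h14 with h | h
        · rw [h, pow_one] at h12
          exact h1 h12
        · rw [h, pow_two, mul_smul] at h12
          exact h2 h12
      rcases lt_trichotomy j j' with h | h | h
      · exact (key j j' h10 h).elim
      · exact h
      · exact (key j' j h10.symm h).elim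
    rw [h11]
  have hc := Nat.card_le_card_of_injective F hF
  rwa [Nat.card_prod, Nat.card_fin, Nat.card_fin, mul_comm] at hc

/-- normal complement -/
theorem exists_compl {R : Type*} [Group R] [Finite R] {r : ℕ} (hr : r.Prime) (hno : Isol R r)
    (h2 : ¬ r ^ 2 ∣ Nat.card R) (hd : r ∣ Nat.card R) (hE : E (Nat.card R) r = 1) :
    ∃ M : Subgroup R, M.Normal ∧ M.index = r := by
  have hr' : Fact r.Prime := ⟨hr⟩
  by_cases hR : Nat.card R = r
  · exact ⟨⊥, inferInstance, by rw [Subgroup.index_bot, hR]⟩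
  obtain ⟨x, hx⟩ := exists_prime_orderOf_dvd_card' (G := R) r hd
  have hc := card_cent_of_noOrd hr h2 hno hx
  obtain ⟨h3, -⟩ := card_norm_mod hr h2 hR hc
  have hf : (Nat.card R).factorization r = 1 := by
    have h4 : Nat.card R ≠ 0 := Nat.card_pos.ne'
    have h5 := (hr.dvd_iff_one_le_factorization h4).1 hd
    have h6 : ¬ 2 ≤ (Nat.card R).factorization r := fun h => h2 ((hr.pow_dvd_iff_le_factorization h4).2 h)
    omega
  let P : Sylow r R := Sylow.ofCard (zpowers x) (by rw [Nat.card_zpowers, hx, hf, pow_one])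
  have hP : (P : Subgroup R) = zpowers x := rfl
  have hPn : normalizer ((P : Subgroup R) : Set R) ≤ centralizer ((P : Subgroup R) : Set R) := by
    have h4 : Nat.card (normalizer ((zpowers x : Subgroup R) : Set R)) = r := by
      rw [h3]
      unfold E at hE
      rw [hE, mul_one]
    have h5 : (zpowers x : Subgroup R) = normalizer ((zpowers x : Subgroup R) : Set R) :=
      Subgroup.eq_of_le_of_card_ge le_normalizer (by rw [h4, Nat.card_zpowers, hx])
    rw [hP, ← h5]
    rw [Subgroup.le_centralizer_iff_isMulCommutative]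
    infer_instance
  refine ⟨(MonoidHom.transferSylow P hPn).ker, inferInstance, ?_⟩
  rw [(MonoidHom.ker_transferSylow_isComplement' P hPn).symm.index_eq_card, hP, Nat.card_zpowers, hx]

/-- `r E` is the order of a subgroup -/
theorem mul_E_dvd {R : Type*} [Group R] [Finite R] {r : ℕ} (hr : r.Prime) (hno : Isol R r)
    (h2 : ¬ r ^ 2 ∣ Nat.card R) (hd : r ∣ Nat.card R) : r * E (Nat.card R) r ∣ Nat.card R := by
  have hr' : Fact r.Prime := ⟨hr⟩
  by_cases hR : Nat.card R = r
  · unfold E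
    rw [hR, Nat.div_self hr.pos, Nat.mod_eq_of_lt hr.one_lt, mul_one]
  obtain ⟨x, hx⟩ := exists_prime_orderOf_dvd_card' (G := R) r hd
  have hc := card_cent_of_noOrd hr h2 hno hx
  obtain ⟨h3, -⟩ := card_norm_mod hr h2 hR hc
  unfold E
  rw [← h3]
  exact Subgroup.card_subgroup_dvd_card _

/-- an 8-cycle is odd -/
theorem neg_one_of_regular {X : Type*} [Fintype X] [DecidableEq X] (hX : Fintype.card X = 8) (σ : Equiv.Perm X)
    (h8 : σ ^ 8 = 1) {p : X} (hp : (σ ^ 4) p ≠ p) : Equiv.Perm.sign σ = -1 := by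
  have hinj : Function.Injective (fun i : Fin 8 => (σ ^ (i : ℕ)) p) := by
    have key : ∀ a b : Fin 8, (σ ^ (a : ℕ)) p = (σ ^ (b : ℕ)) p → a < b → False := by
      intro a b hab hlt
      have hlt' : (a : ℕ) < b := hlt
      have h12 : (σ ^ ((b : ℕ) - a)) p = p := by
        have h13 : σ ^ (b : ℕ) = σ ^ (a : ℕ) * σ ^ ((b : ℕ) - a) := by
          rw [← pow_add]
          congr 1
          omega
        rw [h13, Equiv.Perm.mul_apply] at hab
        exact ((σ ^ (a : ℕ)).injective hab).symm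
      have hk : ∀ d k : ℕ, (σ ^ d) p = p → (σ ^ (d * k)) p = p := by
        intro d k hd
        rw [pow_mul]
        induction k with
        | zero => rfl
        | succ k ih => rw [pow_succ, Equiv.Perm.mul_apply, hd, ih]
      have h14 : ∀ d : Fin 8, 0 < (d : ℕ) → ∃ k : Fin 8, ((d : ℕ) * (k : ℕ)) % 8 = 4 := by decide
      obtain ⟨k, hk1⟩ := h14 ⟨(b : ℕ) - a, by omega⟩ (by simp only; omega)
      simp only at hk1
      have h15 := hk ((b : ℕ) - a) k h12
      apply hp
      rw [← Nat.div_add_mod (((b : ℕ) - a) * (k : ℕ)) 8, pow_add, pow_mul, h8, one_pow, one_mul, hk1] at h15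
      exact h15
    intro a b hab
    rcases lt_trichotomy a b with h | h | h
    · exact (key a b hab h).elim
    · exact h
    · exact (key b a hab.symm h).elim
  have hbij : Function.Bijective (fun i : Fin 8 => (σ ^ (i : ℕ)) p) := by
    rw [Fintype.bijective_iff_injective_and_card]
    exact ⟨hinj, by rw [Fintype.card_fin, hX]⟩
  have hmv : ∀ q, σ q ≠ q := by
    intro q hq
    obtain ⟨i, rfl⟩ := hbij.2 q
    simp only at hq
    have h1 : (σ ^ (i : ℕ)) (σ p) = (σ ^ (i : ℕ)) p := by
      rw [← Equiv.Perm.mul_apply, ← pow_succ, pow_succ', Equiv.Perm.mul_apply]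
      exact hq
    have h2 := (σ ^ (i : ℕ)).injective h1
    apply hp
    have h3 : ∀ n : ℕ, (σ ^ n) p = p := by
      intro n
      induction n with
      | zero => rfl
      | succ n ih => rw [pow_succ, Equiv.Perm.mul_apply, h2, ih]
    exact h3 4
  have hcyc : σ.IsCycle := by
    refine ⟨p, hmv p, fun q _ => ?_⟩
    obtain ⟨i, rfl⟩ := hbij.2 q
    exact ⟨(i : ℕ), by simp⟩
  rw [hcyc.sign]
  have hsup : σ.support = Finset.univ := by
    ext q
    simp [hmv q]
  rw [hsup, Finset.card_univ, hX]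
  rfl

end Cfsg.Agent.H921.Cov
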